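import Mathlib
import Cfsg.Agent.Prune
set_option linter.all false
prune_inst 0x7f00000000000000000000000000000000000000000000000000000000000000000000000000000000000000000000000000000000000000000000000000000000000000000000000000000000000000003fffffffffffffffffffffffffffbeffbdffbfffff
open scoped Cfsg.Agent.FastGrp

/-!
# Subgroups of index 23 of a 5-transitive group of degree 24 and order 244823040
-/

set_option autoImplicit false
open Subgroup MulAction

namespace Cfsg.Agent.H660.M24Index

variable {G Ω : Type*} [Group G] [Finite G] [Finite Ω] [MulAction G Ω]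

/-- The numerical frame of `M24`. -/
structure Fr (G Ω : Type*) [Group G] [MulAction G Ω] : Prop where
  deg : Nat.card Ω = 24
  ord : Nat.card G = 244823040
  tr : IsMultiplyPretransitive G Ω 5

variable (F : Fr G Ω)

include F

omit [Finite G] in
theorem Fr.tr_le {n : ℕ} (hn : n ≤ 5) : IsMultiplyPretransitive G Ω n := by
  have := F.tr
  apply isMultiplyPretransitive_of_le (n := 5) hn
  rw [F.deg]
  omega

omit [Finite G] in
theorem Fr.card_fixing {n : ℕ} (hn : n ≤ 5) {s : Set Ω} (hs : s.ncard = n) {m : ℕ}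
    (hm : m * Nat.factorial 24 = 244823040 * Nat.factorial (24 - n)) :
    Nat.card (fixingSubgroup G s) = m := by
  have h1 := (F.tr_le hn).index_of_fixingSubgroup_mul hs
  rw [F.deg] at h1
  have h3 := (fixingSubgroup G s).card_mul_index
  rw [F.ord] at h3
  apply Nat.eq_of_mul_eq_mul_right (Nat.factorial_pos 24)
  rw [hm, ← h3, mul_assoc, h1]

/-- Numbers of fixed points. -/
theorem Fr.fixed {L : Subgroup G} {r : ℕ} [Fact r.Prime] {a : L} (ha : orderOf a = r) {n : ℕ}
    (hn : n ≤ 5) {m : ℕ} (hm : m * Nat.factorial 24 = 244823040 * Nat.factorial (24 - n))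
    (hr : ¬ r ∣ m) : (fixedPoints (zpowers a) Ω).ncard < n ∧
      (fixedPoints (zpowers a) Ω).ncard ≡ 24 [MOD r] := by
  have hP : IsPGroup r (zpowers a) := IsPGroup.of_card (n := 1) (by rw [Nat.card_zpowers, ha, pow_one])
  constructor
  · by_contra hcon
    push Not at hcon
    obtain ⟨s, hs, hsn⟩ := Set.exists_subset_card_eq hcon
    have h1 := F.card_fixing hn hsn hm
    have h7 : (a : G) ∈ fixingSubgroup G s := by
      rw [mem_fixingSubgroup_iff]
      intro y hy
      exact hs hy ⟨a, mem_zpowers a⟩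
    have h8 : orderOf (⟨(a : G), h7⟩ : fixingSubgroup G s) ∣ Nat.card (fixingSubgroup G s) :=
      _root_.orderOf_dvd_natCard _
    rw [Subgroup.orderOf_mk, Subgroup.orderOf_coe, ha, h1] at h8
    exact hr h8
  · have h1 := hP.card_modEq_card_fixedPoints (α := Ω)
    rw [F.deg] at h1
    exact h1.symm

omit F in
theorem two_of {n : ℕ} (h1 : n < 3) (h2 : n ≡ 24 [MOD 11]) : n = 2 := by
  unfold Nat.ModEq at h2
  interval_cases n <;> omega

omit F in
theorem three_of {n : ℕ} (h1 : n < 4) (h2 : n ≡ 24 [MOD 7]) : n = 3 := by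
  unfold Nat.ModEq at h2
  interval_cases n <;> omega

/-- **A subgroup of order `|M22|` fixing a point fixes a second one.** -/
theorem Fr.exists_fixed (x : Ω) {L : Subgroup G} (hLx : L ≤ stabilizer G x)
    (hL : Nat.card L = 443520) : ∃ y, y ≠ x ∧ L = stabilizer G x ⊓ stabilizer G y := by
  classical
  have : Fact (Nat.Prime 11) := ⟨by norm_num⟩
  have : Fact (Nat.Prime 7) := ⟨by norm_num⟩
  obtain ⟨a, ha⟩ := exists_prime_orderOf_dvd_card' (G := L) 11 (by rw [hL]; norm_num)
  obtain ⟨b, hb⟩ := exists_prime_orderOf_dvd_card' (G := L) 7 (by rw [hL]; norm_num)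
  have ha2 : (fixedPoints (zpowers a) Ω).ncard = 2 := by
    obtain ⟨h1, h2⟩ := F.fixed ha (n := 3) (by norm_num) (m := 20160) (by decide +kernel)
      (by norm_num)
    exact two_of h1 h2
  have hb3 : (fixedPoints (zpowers b) Ω).ncard = 3 := by
    obtain ⟨h1, h2⟩ := F.fixed hb (n := 4) (by norm_num) (m := 960) (by decide +kernel)
      (by norm_num)
    exact three_of h1 h2
  have hxa : ∀ c : L, x ∈ fixedPoints (zpowers c) Ω := by
    intro c z
    exact hLx z.1.2
  obtain ⟨u, v, huv, hset⟩ := Set.ncard_eq_two.1 ha2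
  obtain ⟨y, hyx, hset⟩ : ∃ y, y ≠ x ∧ fixedPoints (zpowers a) Ω = {x, y} := by
    have h1 := hxa a
    rw [hset] at h1
    rcases h1 with h1 | h1
    · exact ⟨v, by rw [h1]; exact huv.symm, by rw [h1]; exact hset⟩
    · have h1' : x = v := h1
      exact ⟨u, by rw [h1']; exact huv, by rw [h1', hset, Set.pair_comm]⟩
  have hy : y ∈ fixedPoints (zpowers a) Ω := by rw [hset]; simp
  have hxO : x ∉ orbit L y := by
    rintro ⟨l, hl⟩
    have h1 : l • x = x := hLx l.2
    have h2 : l • y = x := hl
    apply hyx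
    have := MulAction.injective l (h2.trans h1.symm)
    exact this
  -- the orbit of y has 1, 12 or 23 elements
  have hOa : Nat.card (orbit L y) ≡ 1 [MOD 11] := by
    have hP : IsPGroup 11 (zpowers a) :=
      IsPGroup.of_card (n := 1) (by rw [Nat.card_zpowers, ha, pow_one])
    have h1 := hP.card_modEq_card_fixedPoints (α := orbit L y)
    have h2 : Nat.card (fixedPoints (zpowers a) (orbit L y)) = 1 := by
      rw [Nat.card_eq_one_iff_unique]
      refine ⟨⟨?_⟩, ⟨⟨⟨y, mem_orbit_self y⟩, fun z => Subtype.ext (hy z)⟩⟩⟩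
      have key : ∀ w : fixedPoints (zpowers a) (orbit L y), ((w : orbit L y) : Ω) = y := by
        intro w
        have hw : ((w : orbit L y) : Ω) ∈ fixedPoints (zpowers a) Ω := fun z =>
          congrArg Subtype.val (w.2 z)
        rw [hset] at hw
        rcases hw with hw | hw
        · exfalso
          apply hxO
          rw [← hw]
          exact (w : orbit L y).2
        · exact hw
      intro w w'
      apply Subtype.ext
      apply Subtype.ext
      rw [key w, key w']
    rwa [h2] at h1
  have hOle : Nat.card (orbit L y) < 24 := by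
    have h1 : (orbit L y).ncard < (Set.univ : Set Ω).ncard := by
      apply Set.ncard_lt_ncard _ Set.finite_univ
      rw [Set.ssubset_univ_iff]
      intro h
      apply hxO
      rw [h]
      exact Set.mem_univ x
    rw [Set.ncard_univ, F.deg] at h1
    exact h1
  have hOd : Nat.card (orbit L y) ∣ 443520 := by
    rw [← hL]
    have h := Subgroup.index_dvd_card (stabilizer L y)
    rw [index_stabilizer] at h
    exact h
  have hO12 : Nat.card (orbit L y) ≠ 12 := by
    intro h12
    have hP : IsPGroup 7 (zpowers b) :=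
      IsPGroup.of_card (n := 1) (by rw [Nat.card_zpowers, hb, pow_one])
    have h1 := hP.card_modEq_card_fixedPoints (α := orbit L y)
    rw [h12] at h1
    have h2 : Nat.card (fixedPoints (zpowers b) (orbit L y)) ≤ 3 := by
      rw [← hb3]
      let f : fixedPoints (zpowers b) (orbit L y) → fixedPoints (zpowers b) Ω := fun w =>
        ⟨((w : orbit L y) : Ω), fun z => congrArg Subtype.val (w.2 z)⟩
      exact Nat.card_le_card_of_injective f fun w w' h =>
        Subtype.ext (Subtype.ext (congrArg (fun q : fixedPoints (zpowers b) Ω => (q : Ω)) h))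
    unfold Nat.ModEq at h1
    omega
  have hO1 : Nat.card (orbit L y) = 1 := by
    have h23 : Nat.card (orbit L y) ≠ 23 := by
      intro h
      rw [h] at hOd
      norm_num at hOd
    unfold Nat.ModEq at hOa
    omega
  have hLy : L ≤ stabilizer G y := by
    intro l hl
    have h1 := (Nat.card_eq_one_iff_unique.1 hO1).1
    have h2 := Subsingleton.elim (⟨(⟨l, hl⟩ : L) • y, mem_orbit y _⟩ : orbit L y)
      ⟨y, mem_orbit_self y⟩
    exact congrArg Subtype.val h2
  refine ⟨y, hyx, ?_⟩
  apply Subgroup.eq_of_le_of_card_ge (le_inf hLx hLy)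
  have h2 := F.card_fixing (n := 2) (by norm_num) (s := {x, y}) (Set.ncard_pair hyx.symm)
    (m := 443520) (by decide +kernel)
  have h3 : fixingSubgroup G {x, y} = stabilizer G x ⊓ stabilizer G y := by
    ext g
    rw [mem_fixingSubgroup_iff, mem_inf, mem_stabilizer_iff, mem_stabilizer_iff]
    simp
  rw [← h3, h2, hL]

omit [Finite G] in
/-- Tuple form of multiple transitivity. -/
theorem Fr.exists_map {n : ℕ} (hn : n ≤ 5) (a b : Fin n → Ω) (ha : Function.Injective a)
    (hb : Function.Injective b) : ∃ g : G, ∀ i, g • a i = b i := by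
  have hn' := F.tr_le hn
  rw [isMultiplyPretransitive_iff] at hn'
  obtain ⟨g, hg⟩ := hn' ⟨a, ha⟩ ⟨b, hb⟩
  exact ⟨g, fun i => congrArg (fun f : Fin n ↪ Ω => f i) hg⟩

omit [Finite G] in
theorem Fr.map3 {a b c d : Ω} (hac : a ≠ c) (hbc : b ≠ c) (had : a ≠ d) (hbd : b ≠ d)
    (hab : a ≠ b) : ∃ g : G, g • a = a ∧ g • b = b ∧ g • c = d := by
  obtain ⟨g, hg⟩ := F.exists_map (n := 3) (by norm_num) ![a, b, c] ![a, b, d]
    (by intro i j; (revert i j; simp only [hab, hac, hbc, hab.symm, hac.symm, hbc.symm, _root_.Fin.forall_fin_succ, Fin.isValue, _root_.Matrix.cons_val_zero, _root_.Matrix.cons_val_succ, _root_.Fin.succ_zero_eq_one, _root_.Matrix.cons_val_fin_one, _root_.Fin.succ_one_eq_two, _root_.IsEmpty.forall_iff, _root_.and_true, _root_.imp_self, _root_.zero_ne_one, Fin.reduceEq, _root_.and_self, _root_.Fin.succ_ne_zero, _root_.imp_false, _root_.not_false_eq_true, _root_.forall_const, _root_.true_and]))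
    (by intro i j; (revert i j; simp only [hab, had, hbd, hab.symm, had.symm, hbd.symm, _root_.Fin.forall_fin_succ, Fin.isValue, _root_.Matrix.cons_val_zero, _root_.Matrix.cons_val_succ, _root_.Fin.succ_zero_eq_one, _root_.Matrix.cons_val_fin_one, _root_.Fin.succ_one_eq_two, _root_.IsEmpty.forall_iff, _root_.and_true, _root_.imp_self, _root_.zero_ne_one, Fin.reduceEq, _root_.and_self, _root_.Fin.succ_ne_zero, _root_.imp_false, _root_.not_false_eq_true, _root_.forall_const, _root_.true_and]))
  exact ⟨g, hg 0, hg 1, hg 2⟩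

omit [Finite G] in
theorem Fr.map4 {a b c d e : Ω} (hab : a ≠ b) (hac : a ≠ c) (hbc : b ≠ c) (had : a ≠ d)
    (hbd : b ≠ d) (hcd : c ≠ d) (hae : a ≠ e) (hbe : b ≠ e) (hce : c ≠ e) :
    ∃ g : G, g • a = a ∧ g • b = b ∧ g • c = c ∧ g • d = e := by
  obtain ⟨g, hg⟩ := F.exists_map (n := 4) (by norm_num) ![a, b, c, d] ![a, b, c, e]
    (by intro i j; (revert i j; simp only [hab, hac, hbc, had, hbd, hcd, hab.symm, hac.symm, hbc.symm, had.symm, hbd.symm, hcd.symm, _root_.Fin.forall_fin_succ, Fin.isValue, _root_.Matrix.cons_val_zero, _root_.Matrix.cons_val_succ, _root_.Fin.succ_zero_eq_one, _root_.Fin.succ_one_eq_two, _root_.Matrix.cons_val_fin_one, Fin.reduceSucc, _root_.IsEmpty.forall_iff, _root_.and_true, _root_.imp_self, _root_.zero_ne_one, Fin.reduceEq, _root_.and_self, _root_.Fin.succ_ne_zero, _root_.imp_false, _root_.not_false_eq_true, _root_.forall_const, _root_.true_and]))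
    (by intro i j; (revert i j; simp only [hab, hac, hbc, hae, hbe, hce, hab.symm, hac.symm, hbc.symm, hae.symm, hbe.symm, hce.symm, _root_.Fin.forall_fin_succ, Fin.isValue, _root_.Matrix.cons_val_zero, _root_.Matrix.cons_val_succ, _root_.Fin.succ_zero_eq_one, _root_.Fin.succ_one_eq_two, _root_.Matrix.cons_val_fin_one, Fin.reduceSucc, _root_.IsEmpty.forall_iff, _root_.and_true, _root_.imp_self, _root_.zero_ne_one, Fin.reduceEq, _root_.and_self, _root_.Fin.succ_ne_zero, _root_.imp_false, _root_.not_false_eq_true, _root_.forall_const, _root_.true_and]))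
  exact ⟨g, hg 0, hg 1, hg 2, hg 3⟩

omit F [Finite Ω] in
theorem exists_ne_of_card (hdeg : Nat.card Ω = 24) (s : Finset Ω) (hs : s.card ≤ 4) :
    ∃ z : Ω, z ∉ s := by
  classical
  have : Finite Ω := Nat.finite_of_card_ne_zero (by rw [hdeg]; norm_num)
  have := Fintype.ofFinite Ω
  by_contra hcon
  push Not at hcon
  have h1 : s = Finset.univ := Finset.eq_univ_iff_forall.2 hcon
  rw [h1, Finset.card_univ, ← Nat.card_eq_fintype_card, hdeg] at hs
  omega

/-- **No subgroup of index 23 in `M24`.** -/
theorem Fr.index_ne (H : Subgroup G) : H.index ≠ 23 := by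
  classical
  intro hH
  have hdeg := F.deg
  have h1t : IsPretransitive G Ω := is_one_pretransitive_iff.mp (F.tr_le (by norm_num))
  have key : ∀ x : Ω, ∃ y, y ≠ x ∧ H ⊓ stabilizer G x = stabilizer G x ⊓ stabilizer G y := by
    intro x
    apply F.exists_fixed x inf_le_right
    have h1 : (stabilizer G x).index = 24 := by
      rw [index_stabilizer_of_transitive, hdeg]
    have h2 : (H ⊓ stabilizer G x).index = 23 * 24 := by
      apply Nat.dvd_antisymm
      · rw [← hH, ← h1]
        have h3 := Subgroup.relIndex_mul_index (inf_le_right : H ⊓ stabilizer G x ≤ stabilizer G x)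
        have h4 : (H ⊓ stabilizer G x).relIndex (stabilizer G x) = H.relIndex (stabilizer G x) :=
          Subgroup.inf_relIndex_right _ _
        have h5 : H.relIndex (stabilizer G x) ≤ H.index := by
          have := Subgroup.relIndex_le_of_le_right (H := H) (K := stabilizer G x) (L := ⊤) le_top
          rw [Subgroup.relIndex_top_right] at this
          exact this Subgroup.index_ne_zero_of_finite
        have h6 : 23 ∣ (H ⊓ stabilizer G x).index := by
          rw [← hH]; exact Subgroup.index_dvd_of_le inf_le_left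
        have h7 : 24 ∣ (H ⊓ stabilizer G x).index := by
          rw [← h1]; exact Subgroup.index_dvd_of_le inf_le_right
        have h8 : 23 * 24 ∣ (H ⊓ stabilizer G x).index :=
          Nat.Coprime.mul_dvd_of_dvd_of_dvd (by norm_num) h6 h7
        have h9 : (H ⊓ stabilizer G x).index ≤ 23 * 24 := by
          rw [← h3, h4, h1]
          rw [hH] at h5
          exact Nat.mul_le_mul_right 24 h5
        have h10 : (H ⊓ stabilizer G x).index = 23 * 24 := by
          apply le_antisymm h9
          apply Nat.le_of_dvd _ h8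
          exact Nat.pos_of_ne_zero Subgroup.index_ne_zero_of_finite
        rw [h10, hH, h1]
      · have h6 : 23 ∣ (H ⊓ stabilizer G x).index := by
          rw [← hH]; exact Subgroup.index_dvd_of_le inf_le_left
        have h7 : 24 ∣ (H ⊓ stabilizer G x).index := by
          rw [← h1]; exact Subgroup.index_dvd_of_le inf_le_right
        exact Nat.Coprime.mul_dvd_of_dvd_of_dvd (by norm_num) h6 h7
    have h3 := (H ⊓ stabilizer G x).card_mul_index
    rw [h2, F.ord] at h3
    omega
  choose w hw hwi using key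
  have hTH : ∀ x, stabilizer G x ⊓ stabilizer G (w x) ≤ H := fun x => by
    rw [← hwi x]; exact inf_le_left
  have hww : ∀ x, w (w x) = x := by
    intro x
    by_contra hne
    obtain ⟨z, hz⟩ := exists_ne_of_card hdeg {x, w x, w (w x)} (Finset.card_le_three.trans (by norm_num))
    simp only [Finset.mem_insert, Finset.mem_singleton, not_or] at hz
    obtain ⟨g, hg1, hg2, hg3⟩ := F.map3 (a := x) (b := w x) (c := w (w x)) (d := z) (Ne.symm hne)
      (hw (w x)).symm (Ne.symm hz.1) (Ne.symm hz.2.1) (hw x).symm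
    have h1 : g ∈ H ⊓ stabilizer G (w x) := ⟨hTH x ⟨hg1, hg2⟩, hg2⟩
    rw [hwi (w x)] at h1
    have h2 : g • w (w x) = w (w x) := h1.2
    rw [hg3] at h2
    exact hz.2.2 h2
  obtain ⟨x, _⟩ := exists_ne_of_card hdeg ∅ (by simp)
  obtain ⟨z, hz⟩ := exists_ne_of_card hdeg {x, w x} (Finset.card_le_two.trans (by norm_num))
  simp only [Finset.mem_insert, Finset.mem_singleton, not_or] at hz
  have hzx : w z ≠ x := by
    intro h
    apply hz.2
    rw [← h, hww]
  have hzy : w z ≠ w x := by
    intro h
    apply hz.1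
    rw [← hww z, h, hww]
  obtain ⟨v, hv⟩ := exists_ne_of_card hdeg {x, w x, z, w z} Finset.card_le_four
  simp only [Finset.mem_insert, Finset.mem_singleton, not_or] at hv
  obtain ⟨g, hg1, hg2, hg3, hg4⟩ := F.map4 (a := x) (b := w x) (c := z) (d := w z) (e := v)
    (hw x).symm (Ne.symm hz.1) (Ne.symm hz.2) hzx.symm hzy.symm (hw z).symm (Ne.symm hv.1)
    (Ne.symm hv.2.1) (Ne.symm hv.2.2.1)
  have h1 : g ∈ H ⊓ stabilizer G z := ⟨hTH x ⟨hg1, hg2⟩, hg3⟩
  rw [hwi z] at h1
  have h2 : g • w z = w z := h1.2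
  rw [hg4] at h2
  exact hv.2.2.2 h2

/-- **The point stabiliser `M23` is 4-transitive on every set with 23 elements on which it acts
transitively.** -/
theorem Fr.four {T : Type*} [Group T] (x : Ω) (e : T →* G) (he : Function.Injective e)
    (hr : e.range = stabilizer G x) {Δ : Type*} [MulAction T Δ] [IsPretransitive T Δ]
    (hΔ : Nat.card Δ = 23) : IsMultiplyPretransitive T Δ 4 := by
  classical
  have hfT : Finite T := Finite.of_injective e he
  have hfin : Finite Δ := Nat.finite_of_card_ne_zero (by rw [hΔ]; norm_num)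
  have hne : Nonempty Δ := by
    by_contra h
    rw [not_nonempty_iff] at h
    rw [Nat.card_eq_zero.2 (Or.inl h)] at hΔ
    omega
  obtain ⟨ω⟩ := hne
  have h1t : IsPretransitive G Ω := is_one_pretransitive_iff.mp (F.tr_le (by norm_num))
  have hTc : Nat.card T = 10200960 := by
    have h1 : Nat.card e.range = Nat.card T := Nat.card_congr (MonoidHom.ofInjective he).toEquiv.symm
    rw [← h1, hr]
    have h2 := (stabilizer G x).card_mul_index
    rw [index_stabilizer_of_transitive, F.deg, F.ord] at h2
    omega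
  have hLc : Nat.card (stabilizer T ω) = 443520 := by
    have h2 := (stabilizer T ω).card_mul_index
    rw [index_stabilizer_of_transitive, hΔ, hTc] at h2
    omega
  obtain ⟨y, hyx, hy⟩ := F.exists_fixed x (L := (stabilizer T ω).map e)
    (by rw [← hr]; exact map_le_range e _)
    (by rw [← hLc]; exact Nat.card_congr ((stabilizer T ω).equivMapOfInjective e he).toEquiv.symm)
  have hstab : ∀ t : T, t • ω = ω ↔ e t • y = y := by
    intro t
    constructor
    · intro ht
      have h1 : e t ∈ (stabilizer T ω).map e := ⟨t, ht, rfl⟩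
      rw [hy] at h1
      exact h1.2
    · intro ht
      have h0 : e t ∈ stabilizer G x := by rw [← hr]; exact ⟨t, rfl⟩
      have h1 : e t ∈ (stabilizer T ω).map e := by
        rw [hy]; exact ⟨h0, ht⟩
      obtain ⟨s, hs, hst⟩ := h1
      rw [he hst] at hs
      exact hs
  have hex : ∀ δ : Δ, ∃ t : T, t • ω = δ := fun δ => _root_.MulAction.exists_smul_eq T ω δ
  choose τ hτ using hex
  let f : Δ → Ω := fun δ => e (τ δ) • y
  have hf : ∀ (t : T) (δ : Δ), t • ω = δ → f δ = e t • y := by
    intro t δ ht
    have h1 : (t⁻¹ * τ δ) • ω = ω := by rw [mul_smul, hτ, ← ht, inv_smul_smul]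
    rw [hstab, map_mul, map_inv, mul_smul, inv_smul_eq_iff] at h1
    exact h1
  have hfx : ∀ δ, f δ ≠ x := by
    intro δ h
    have h0 : e (τ δ) ∈ stabilizer G x := by rw [← hr]; exact ⟨τ δ, rfl⟩
    apply hyx
    have h2 : e (τ δ) • y = e (τ δ) • x := h.trans h0.symm
    exact MulAction.injective _ h2
  have hfs : ∀ (t : T) (δ : Δ), f (t • δ) = e t • f δ := by
    intro t δ
    rw [hf (t * τ δ) (t • δ) (by rw [mul_smul, hτ]), map_mul, mul_smul]
  have hfi : Function.Injective f := by
    intro δ δ' h
    have h1 : e (τ δ) • y = e (τ δ') • y := h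
    rw [← inv_smul_eq_iff, ← mul_smul, ← map_inv, ← map_mul, ← hstab, mul_smul, inv_smul_eq_iff,
      hτ, hτ] at h1
    exact h1
  rw [isMultiplyPretransitive_iff]
  intro u v
  obtain ⟨g, hg⟩ := F.exists_map (n := 5) le_rfl (Fin.cons x fun i => f (u i))
    (Fin.cons x fun i => f (v i))
    (by
      rw [Fin.cons_injective_iff]
      refine ⟨?_, hfi.comp u.injective⟩
      rintro ⟨i, hi⟩
      exact hfx _ hi)
    (by
      rw [Fin.cons_injective_iff]
      refine ⟨?_, hfi.comp v.injective⟩
      rintro ⟨i, hi⟩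
      exact hfx _ hi)
  have hgx : g • x = x := hg 0
  have hgr : g ∈ e.range := by rw [hr]; exact hgx
  obtain ⟨t, rfl⟩ := hgr
  refine ⟨t, ?_⟩
  ext i
  apply hfi
  have h1 : e t • f (u i) = f (v i) := hg i.succ
  rw [← h1, ← hfs]
  rfl

end Cfsg.Agent.H660.M24Index
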